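import Cfsg.Agent.SporRec.Co3.Sylow2
import Cfsg.Agent.Co2Type.Setup
import Cfsg.Agent.OddHalf.D4.Spor.Sheet

-- merged: Cfsg.Agent.KFacts.Co3D4.Small
section

/-!
# Normal subgroups of the centraliser, in `2.Sp₆(2)`, of an involution of type B

`small`: `C` the non-split double cover of `Sp₆(2)`, `y` an involution of type B, `M ≤ C_C(y)` normalised by `C_C(y)`,
`z ∉ M`: then `M ≤ {1, y, z y}`.

`exists_A`: an involution of type A commuting with `y`.
-/

set_option autoImplicit false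
set_option linter.unusedSimpArgs false

namespace Cfsg.Agent.KFacts.Co3D4

open Cfsg.Agent.SporRec.TwoSp6.Cox Cfsg.Agent.SporRec.TwoSp6.Sp Cfsg.Agent.SporRec.TwoSp6.Lift
  Cfsg.Agent.SporRec.TwoSp6.Main Cfsg.Agent.SporRec.TwoSp6.Invol Cfsg.Agent.SporRec.TwoSp6.CInvol
open Cfsg.Agent.SporRec.Co3.Fusion (comm_three)

/-! ### `Sp₆(2)` -/

theorem smul_cases (a : ZMod 2) (x : V) (h : a • x = 0) (hx : x ≠ 0) : a = 0 := by
  rcases (show ∀ a : ZMod 2, a = 0 ∨ a = 1 by decide) a with rfl | rfl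
  · rfl
  · rw [one_smul] at h
    exact absurd h hx

/-- Coefficients of a vanishing combination of two independent vectors. -/
theorem coef_two {u w : V} (hu : u ≠ 0) (hw : w ≠ 0) (hne : w ≠ u) {α β : ZMod 2} (h : α • u + β • w = 0) :
    α = 0 ∧ β = 0 := by
  have d : ∀ a : ZMod 2, a = 0 ∨ a = 1 := by decide
  rcases d α with rfl | rfl <;> rcases d β with rfl | rfl
  · exact ⟨rfl, rfl⟩
  · rw [zero_smul, one_smul, zero_add] at h
    exact absurd h hw
  · rw [zero_smul, one_smul, add_zero] at h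
    exact absurd h hu
  · rw [one_smul, one_smul] at h
    exact absurd (eq_of_add_eq_zero h).symm hne

/-- Coefficients of a vanishing combination of three independent vectors. -/
theorem coef_three {u w t : V} (hi : Ind u w t) {α β γ : ZMod 2} (h : α • u + β • w + γ • t = 0) :
    α = 0 ∧ β = 0 ∧ γ = 0 := by
  obtain ⟨h1, h2, h3, h4, h5, h6, h7⟩ := hi
  have d : ∀ a : ZMod 2, a = 0 ∨ a = 1 := by decide
  rcases d γ with rfl | rfl
  · rw [zero_smul, add_zero] at h
    obtain ⟨a, b⟩ := coef_two h1 h2 h3 h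
    exact ⟨a, b, rfl⟩
  · exfalso
    rw [one_smul] at h
    have ht := eq_of_add_eq_zero h
    rcases d α with rfl | rfl <;> rcases d β with rfl | rfl
    · rw [zero_smul, zero_smul, zero_add] at ht; exact h4 ht.symm
    · rw [zero_smul, one_smul, zero_add] at ht; exact h6 ht.symm
    · rw [zero_smul, one_smul, add_zero] at ht; exact h5 ht.symm
    · rw [one_smul, one_smul] at ht; exact h7 ht.symm

theorem fix_two {u w x : V} (hu : u ≠ 0) (hw : w ≠ 0) (hne : w ≠ u) (ho : om u w = 0)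
    (h : act (tr u * tr w) x = x) : om x u = 0 ∧ om x w = 0 := by
  have ho' : om w u = 0 := by rw [om_symm]; exact ho
  rw [act_mul, act_tr, act_tr, om_add', om_smul', ho', mul_zero, add_zero] at h
  have h2 : om x u • u + om x w • w = 0 := by
    have : x + (om x u • u + om x w • w) = x + 0 := by
      rw [add_zero]
      calc x + (om x u • u + om x w • w) = x + om x w • w + om x u • u := by abel
        _ = x := h
    exact add_left_cancel this
  exact coef_two hu hw hne h2

theorem fix_A {u w x : V} (hu : u ≠ 0) (hw : w ≠ 0) (hne : w ≠ u) (ho : om u w = 0)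
    (h : act (tr u * tr w * tr (u + w)) x = x) : om x u = 0 ∧ om x w = 0 := by
  rw [tr3_apply ho] at h
  have h2 : om x w • u + om x u • w = 0 := by
    have : x + (om x w • u + om x u • w) = x + 0 := by rw [add_zero]; exact h
    exact add_left_cancel this
  exact (coef_two hu hw hne h2).symm

theorem fix_B {u w t x : V} (hi : Ind u w t) (ho : Orth u w t) (h : act (tr u * tr w * tr t) x = x) :
    om x u = 0 ∧ om x w = 0 ∧ om x t = 0 := by
  obtain ⟨o1, o2, o3⟩ := ho
  have o1' : om w u = 0 := by rw [om_symm]; exact o1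
  have o2' : om t u = 0 := by rw [om_symm]; exact o2
  have o3' : om t w = 0 := by rw [om_symm]; exact o3
  rw [act_mul, act_mul, act_tr t, act_tr w, act_tr u] at h
  simp only [om_add', om_smul', o1', o2', o3', mul_zero, add_zero] at h
  have h2 : om x u • u + om x w • w + om x t • t = 0 := by
    have : x + (om x u • u + om x w • w + om x t • t) = x + 0 := by
      rw [add_zero]
      calc x + (om x u • u + om x w • w + om x t • t) = x + om x t • t + om x w • w + om x u • u := by abel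
        _ = x := h
    exact add_left_cancel this
  exact coef_three hi h2

/-- Transvections are determined by their vector. -/
theorem tr_inj {u w : V} (hu : u ≠ 0) (hw : w ≠ 0) (h : tr u = tr w) : u = w := by
  by_contra hne
  have h1 : tr u * tr w = 1 := by rw [h, tr_sq]
  obtain ⟨a, ha⟩ := exists_om_one hu
  have ha' : om a u = 1 := by rw [om_symm]; exact ha
  have ho : om u w = 0 := by
    have h2 : act (tr u) u = u := by rw [act_tr, om_self, zero_smul, add_zero]
    rw [h, act_tr] at h2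
    have h3 : om u w • w = 0 := by
      have : u + om u w • w = u + 0 := by rw [add_zero]; exact h2
      exact add_left_cancel this
    exact smul_cases _ _ h3 hw
  have h2 : act (tr u * tr w) a = a := by rw [h1, act_one]
  have := (fix_two hu hw (fun h => hne h.symm) ho h2).1
  rw [ha'] at this
  exact one_ne_zero this

theorem act_B {a b c : V} (ho : Orth a b c) (x : V) :
    act (tr a * tr b * tr c) x = x + (om x a • a + om x b • b + om x c • c) := by
  obtain ⟨o1, o2, o3⟩ := ho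
  have o1' : om b a = 0 := by rw [om_symm]; exact o1
  have o2' : om c a = 0 := by rw [om_symm]; exact o2
  have o3' : om c b = 0 := by rw [om_symm]; exact o3
  rw [act_mul, act_mul, act_tr c, act_tr b, act_tr a]
  simp only [om_add', om_smul', o1', o2', o3', mul_zero, add_zero]
  abel

theorem mem_of_B_aux {a b c a' b' c' : V} (ho : Orth a b c) (ho' : Orth a' b' c')
    (h : tr a * tr b * tr c = tr a' * tr b' * tr c') {x : V} (hx : om x a = 1) (hxb : om x b = 0)
    (hxc : om x c = 0) : (a = a' ∨ a = b' ∨ a = c') ∨ (a = a' + b' + c' ∧ om x a' = 1 ∧ om x b' = 1 ∧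
      om x c' = 1) := by
  have h1 := act_B ho x
  rw [h, act_B ho', hx, hxb, hxc, one_smul, zero_smul, zero_smul, add_zero, add_zero] at h1
  have h2 : om x a' • a' + om x b' • b' + om x c' • c' = a := add_left_cancel h1
  have d : ∀ a : ZMod 2, a = 0 ∨ a = 1 := by decide
  -- the number of nonzero coefficients is odd
  have h4 : om x a' * om x a' + om x b' * om x b' + om x c' * om x c' = 1 := by
    have h3 := hx
    rw [← h2, om_add, om_add, om_smul, om_smul, om_smul] at h3
    exact h3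
  rcases d (om x a') with p | p <;> rcases d (om x b') with q | q <;> rcases d (om x c') with r | r <;>
    rw [p, q, r] at h2 h4
  · exact absurd h4 (by decide)
  · rw [zero_smul, zero_smul, one_smul, zero_add, zero_add] at h2; exact Or.inl (Or.inr (Or.inr h2.symm))
  · rw [zero_smul, zero_smul, one_smul, zero_add, add_zero] at h2; exact Or.inl (Or.inr (Or.inl h2.symm))
  · exact absurd h4 (by decide)
  · rw [zero_smul, zero_smul, one_smul, add_zero, add_zero] at h2; exact Or.inl (Or.inl h2.symm)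
  · exact absurd h4 (by decide)
  · exact absurd h4 (by decide)
  · rw [one_smul, one_smul, one_smul] at h2
    exact Or.inr ⟨h2.symm, p, q, r⟩

theorem ind_rot {u w t : V} (h : Ind u w t) : Ind w t u := by
  obtain ⟨h1, h2, h3, h4, h5, h6, h7⟩ := h
  exact ⟨h2, h4, h6, h1, h3.symm, h5.symm, fun h => h7 (by rw [h, add_comm w t, add_assoc, add_self, add_zero])⟩

/-- The three vectors of an involution of type B are determined by it. -/
theorem mem_of_B {a b c a' b' c' : V} (hi : Ind a b c) (ho : Orth a b c) (ho' : Orth a' b' c')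
    (h : tr a * tr b * tr c = tr a' * tr b' * tr c') : a = a' ∨ a = b' ∨ a = c' := by
  obtain ⟨x, hx, hxb, hxc⟩ := exists_om_triple (ind_rot hi)
  rw [om_symm] at hx hxb hxc
  rcases mem_of_B_aux ho ho' h hx hxb hxc with h1 | ⟨h1, p, q, r⟩
  · exact h1
  exfalso
  obtain ⟨y, hy, hyc, hya⟩ := exists_om_triple (ind_rot (ind_rot hi))
  rw [om_symm] at hy hyc hya
  have ho2 : Orth b c a := ⟨ho.2.2, by rw [om_symm]; exact ho.1, by rw [om_symm]; exact ho.2.1⟩
  have h2 : tr b * tr c * tr a = tr a' * tr b' * tr c' := by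
    have c1 : Commute (tr a) (tr b) := tr_comm ho.1
    have c2 : Commute (tr a) (tr c) := tr_comm ho.2.1
    rw [← h, mul_assoc (tr a)]
    exact (c1.mul_right c2).symm
  rcases mem_of_B_aux ho2 ho' h2 hy hyc hya with (h3 | h3 | h3) | ⟨h3, -⟩
  · rw [h3, p] at hxb; exact one_ne_zero hxb
  · rw [h3, q] at hxb; exact one_ne_zero hxb
  · rw [h3, r] at hxb; exact one_ne_zero hxb
  · exact hi.2.2.1 (by rw [h3, h1])

/-! ### The cover -/

section

variable {C : Type*} [Group C] {z : C} {π : C →* S}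

theorem zr (N : NS z π) (a b : C) : a * (z * b) = z * (a * b) := by rw [← mul_assoc, ← N.z_comm, mul_assoc]

theorem zz (N : NS z π) (a : C) : z * (z * a) = a := by rw [← mul_assoc, N.z_sq, one_mul]

/-- `x` fixes the three vectors of `y`. -/
theorem fixes (N : NS z π) {y : C} {a b c : V} (hi : Ind a b c) (ho : Orth a b c) (hy : π y = tr a * tr b * tr c)
    {M : Subgroup C} (hM : ∀ x ∈ M, x * y = y * x) (hn : ∀ g, g * y = y * g → ∀ x ∈ M, g * x * g⁻¹ ∈ M) (hz : z ∉ M)
    {x p : C} (hx : x ∈ M) (hp : π p = tr a) : act (π x) a = a ∧ x * p = p * x := by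
  have hpy : p * y = y * p := comm_three N hi.1 hi.2.1 hi.2.2.1 hi.2.2.2.1 hi.2.2.2.2.1 ho.1 ho.2.1 hy hp
  have hp2 : p * p = z := N.sq a hi.1 p hp
  -- `π x` permutes `a`, `b`, `c`
  have h1 : π x * π y = π y * π x := by rw [← map_mul, hM x hx, map_mul]
  have h2 : tr (act (π x) a) * tr (act (π x) b) * tr (act (π x) c) = tr a * tr b * tr c := by
    rw [← conj_tr, ← conj_tr, ← conj_tr, ← hy]
    have : π x * tr a * (π x)⁻¹ * (π x * tr b * (π x)⁻¹) * (π x * tr c * (π x)⁻¹) =
        π x * (tr a * tr b * tr c) * (π x)⁻¹ := by group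
    rw [this, ← hy, h1, mul_inv_cancel_right]
  have hoa : Orth (act (π x) a) (act (π x) b) (act (π x) c) :=
    ⟨by rw [act_om]; exact ho.1, by rw [act_om]; exact ho.2.1, by rw [act_om]; exact ho.2.2⟩
  have h3 := mem_of_B (hi.act (π x)) hoa ho h2
  -- the commutator with `p`
  have hcm : x * (p * x⁻¹ * p⁻¹) ∈ M := M.mul_mem hx (hn p hpy _ (M.inv_mem hx))
  have hq : π (x * p * x⁻¹) = tr (act (π x) a) := by
    rw [map_mul, map_mul, map_inv, hp, conj_tr]
  have hne : act (π x) a = a := by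
    by_contra hcon
    have key : ∀ r : V, r ≠ 0 → r ≠ a → om a r = 0 → act (π x) a = r → False := by
      intro r hr hra hor hxr
      rw [hxr] at hq
      have hq2 : (x * p * x⁻¹) * (x * p * x⁻¹) = z := N.sq r hr _ hq
      have han := N.anti a r hi.1 hr hra hor p (x * p * x⁻¹) hp hq
      set q := x * p * x⁻¹ with hqd
      have e1 : x * (p * x⁻¹ * p⁻¹) = q * p⁻¹ := by rw [hqd]; group
      rw [e1] at hcm
      have e2 : p⁻¹ = z * p := by
        apply inv_eq_of_mul_eq_one_right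
        rw [zr N, hp2, N.z_sq]
      rw [e2] at hcm
      apply hz
      have e3 : (q * (z * p)) * (q * (z * p)) = z := by
        calc (q * (z * p)) * (q * (z * p)) = (z * (q * p)) * (z * (q * p)) := by rw [zr N]
          _ = (q * p) * (q * p) := N.toExt.z_mul_sq _
          _ = q * (p * q) * p := by group
          _ = q * (z * (q * p)) * p := by rw [han]
          _ = z * ((q * q) * (p * p)) := by rw [zr N]; group
          _ = z := by rw [hq2, hp2, N.z_sq, mul_one]
      rw [← e3]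
      exact M.mul_mem hcm hcm
    rcases h3 with h3 | h3 | h3
    · exact hcon h3
    · exact key b hi.2.1 hi.2.2.1 ho.1 h3
    · exact key c hi.2.2.2.1 hi.2.2.2.2.1 ho.2.1 h3
  refine ⟨hne, ?_⟩
  rw [hne, ← hp] at hq
  rcases N.toExt.eq_or hq.symm with h | h
  · exact mul_inv_eq_iff_eq_mul.1 h
  · exfalso
    apply hz
    have e1 : x * (p * x⁻¹ * p⁻¹) = z := by
      have : x * (p * x⁻¹ * p⁻¹) = x * p * x⁻¹ * p⁻¹ := by group
      rw [this, h, mul_inv_cancel_right]
    rw [← e1]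
    exact hcm

/-- An element of `Sp₆(2)` fixing three independent orthogonal vectors is an involution or trivial. -/
theorem sq_of_fix {g : S} {a b c : V} (hi : Ind a b c) (ho : Orth a b c) (ha : act g a = a) (hb : act g b = b)
    (hc : act g c = c) : g * g = 1 := by
  apply act_ext
  intro v
  rw [act_mul, act_one]
  have key : ∀ r : V, act g r = r → om (v + act g v) r = 0 := by
    intro r hr
    rw [om_add']
    have : om (act g v) r = om v r := by
      conv_lhs => rw [← hr]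
      rw [act_om]
    rw [this]
    exact CharTwo.add_self_eq_zero _
  obtain ⟨α, β, γ, e⟩ := maximal hi ho (key a ha) (key b hb) (key c hc)
  have h1 : act g (v + act g v) = v + act g v := by
    rw [e, act_add, act_add, act_smul, act_smul, act_smul, ha, hb, hc]
  rw [act_add, add_comm v] at h1
  exact add_left_cancel h1

/-- A lift of `tr u tr w tr t` (orthogonal vectors) commuting with a lift of `tr a`, `a` orthogonal to the three
vectors: `a` is one of them. -/
theorem mem_three (N : NS z π) {u w t a : V} (hu : u ≠ 0) (hw : w ≠ 0) (ht : t ≠ 0) (ha : a ≠ 0)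
    (h1 : om a u = 0) (h2 : om a w = 0) (h3 : om a t = 0) {x p : C}
    (hx : π x = tr u * tr w * tr t) (hp : π p = tr a) (hc : x * p = p * x) : a = u ∨ a = w ∨ a = t := by
  by_contra hcon
  push Not at hcon
  obtain ⟨n1, n2, n3⟩ := hcon
  have := NS.conj_three N hu hw ht ha n1.symm n2.symm n3.symm h1 h2 h3 hx hp
  rw [← hc] at this
  apply N.z_ne
  have h4 : 1 * (x * p) = z * (x * p) := by rw [one_mul]; exact this
  exact (mul_right_cancel h4).symm

theorem perm_cases {α : Type*} {u w t a b c : α} (ba : b ≠ a) (ca : c ≠ a) (cb : c ≠ b)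
    (h1 : a = u ∨ a = w ∨ a = t) (h2 : b = u ∨ b = w ∨ b = t) (h3 : c = u ∨ c = w ∨ c = t) :
    (u = a ∧ w = b ∧ t = c) ∨ (u = a ∧ w = c ∧ t = b) ∨ (u = b ∧ w = a ∧ t = c) ∨ (u = b ∧ w = c ∧ t = a) ∨
    (u = c ∧ w = a ∧ t = b) ∨ (u = c ∧ w = b ∧ t = a) := by
  rcases h1 with rfl | rfl | rfl <;> rcases h2 with rfl | rfl | rfl <;> rcases h3 with rfl | rfl | rfl <;> simp_all

theorem prod_perm {G : Type*} [Group G] {α : Type*} (f : α → G) {u w t a b c : α} (c1 : f a * f b = f b * f a)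
    (c2 : f a * f c = f c * f a) (c3 : f b * f c = f c * f b) (h : (u = a ∧ w = b ∧ t = c) ∨
      (u = a ∧ w = c ∧ t = b) ∨ (u = b ∧ w = a ∧ t = c) ∨ (u = b ∧ w = c ∧ t = a) ∨
    (u = c ∧ w = a ∧ t = b) ∨ (u = c ∧ w = b ∧ t = a)) : f a * f b * f c = f u * f w * f t := by
  rcases h with ⟨rfl, rfl, rfl⟩ | ⟨rfl, rfl, rfl⟩ | ⟨rfl, rfl, rfl⟩ | ⟨rfl, rfl, rfl⟩ | ⟨rfl, rfl, rfl⟩ |
    ⟨rfl, rfl, rfl⟩
  · rfl
  · rw [mul_assoc, c3, mul_assoc]
  · rw [c1]
  · rw [mul_assoc]
    calc f t * (f u * f w) = (f t * f u) * f w := by group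
      _ = f u * (f t * f w) := by rw [c1]; group
      _ = f u * f w * f t := by rw [c2]; group
  · calc f w * f t * f u = f w * (f t * f u) := by group
      _ = (f w * f u) * f t := by rw [c3]; group
      _ = f u * f w * f t := by rw [c2]
  · calc f t * f w * f u = (f w * f t) * f u := by rw [c1]
      _ = f w * (f u * f t) := by rw [← c2]; group
      _ = (f u * f w) * f t := by rw [← c3]; group

theorem sum_perm {u w a b c : V} (h : (u = a ∧ w = b ∧ u + w = c) ∨
      (u = a ∧ w = c ∧ u + w = b) ∨ (u = b ∧ w = a ∧ u + w = c) ∨ (u = b ∧ w = c ∧ u + w = a) ∨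
    (u = c ∧ w = a ∧ u + w = b) ∨ (u = c ∧ w = b ∧ u + w = a)) : c = a + b := by
  have dd : ∀ p q : V, p + (p + q) = q := fun p q => by rw [← add_assoc, add_self, zero_add]
  rcases h with ⟨rfl, rfl, h⟩ | ⟨rfl, rfl, h⟩ | ⟨rfl, rfl, h⟩ | ⟨rfl, rfl, h⟩ | ⟨rfl, rfl, h⟩ |
    ⟨rfl, rfl, h⟩
  · exact h.symm
  · rw [← h, dd]
  · rw [← h, add_comm]
  · rw [← h, add_comm u w, add_assoc, add_self, add_zero]
  · rw [← h, add_comm u w, dd]
  · rw [← h, add_assoc, add_self, add_zero]

/-- **A subgroup of `C(y)`, `y` of type B, normalised by `C(y)` and not containing `z`, is contained in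
`{1, y, z y}`.** -/
theorem small (N : NS z π) {y : C} (hB : SporRec.TwoSp6.CInvol.IsB π y) {M : Subgroup C} (hM : ∀ x ∈ M, x * y = y * x)
    (hn : ∀ g, g * y = y * g → ∀ x ∈ M, g * x * g⁻¹ ∈ M) (hz : z ∉ M) :
    ∀ x ∈ M, x = 1 ∨ x = y ∨ x = z * y := by
  obtain ⟨a, b, c, hi, ho, hy⟩ := hB
  intro x hx
  obtain ⟨o1, o2, o3⟩ := ho
  obtain ⟨pa, hpa⟩ := N.surj (tr a)
  obtain ⟨pb, hpb⟩ := N.surj (tr b)
  obtain ⟨pc, hpc⟩ := N.surj (tr c)
  have c1 : Commute (tr a) (tr b) := tr_comm o1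
  have c2 : Commute (tr a) (tr c) := tr_comm o2
  have c3 : Commute (tr b) (tr c) := tr_comm o3
  have o1' : om b a = 0 := by rw [om_symm]; exact o1
  have o2' : om c a = 0 := by rw [om_symm]; exact o2
  have o3' : om c b = 0 := by rw [om_symm]; exact o3
  have hyb : π y = tr b * tr c * tr a := by rw [hy, mul_assoc (tr a)]; exact c1.mul_right c2
  have hyc : π y = tr c * tr a * tr b := by
    rw [hy]; exact ((c2.symm.mul_right c3.symm).eq).symm.trans (mul_assoc _ _ _).symm
  obtain ⟨fa, ka⟩ := fixes N hi ⟨o1, o2, o3⟩ hy hM hn hz hx hpa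
  obtain ⟨fb, kb⟩ := fixes N (ind_rot hi) ⟨o3, o1', o2'⟩ hyb hM hn hz hx hpb
  obtain ⟨fc, kc⟩ := fixes N (ind_rot (ind_rot hi)) ⟨o2', o3', o1⟩ hyc hM hn hz hx hpc
  have hgg := sq_of_fix hi ⟨o1, o2, o3⟩ fa fb fc
  by_cases hg1 : π x = 1
  · rcases N.ker x hg1 with h | h
    · exact Or.inl h
    · rw [h] at hx
      exact absurd hx hz
  right
  obtain ⟨a0, b0, ba, c0, ca, cb, cab⟩ := hi
  rcases classify hgg hg1 with ⟨s, hs, e⟩ | ⟨u, w, hu, hw, hne, huw, e⟩ | ⟨u, w, hu, hw, hne, huw, e⟩ |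
    ⟨u, w, t, hi', ho', e⟩
  · exfalso
    apply hz
    rw [← N.sq s hs x e]
    exact M.mul_mem hx hx
  · exfalso
    apply hz
    rw [← NS.sq_two N hu hw hne huw e]
    exact M.mul_mem hx hx
  · exfalso
    have key : ∀ r : V, r ≠ 0 → ∀ p : C, π p = tr r → act (π x) r = r → x * p = p * x →
        r = u ∨ r = w ∨ r = u + w := by
      intro r hr p hp hf hc
      rw [e] at hf
      obtain ⟨h1, h2⟩ := fix_A hu hw hne huw hf
      exact mem_three N hu hw (add_ne_zero' hne) hr h1 h2 (by rw [om_add, h1, h2, add_zero]) e hp hc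
    exact cab (sum_perm (perm_cases ba ca cb (key a a0 pa hpa fa ka) (key b b0 pb hpb fb kb)
      (key c c0 pc hpc fc kc)))
  · have key : ∀ r : V, r ≠ 0 → ∀ p : C, π p = tr r → act (π x) r = r → x * p = p * x →
        r = u ∨ r = w ∨ r = t := by
      intro r hr p hp hf hc
      rw [e] at hf
      obtain ⟨h1, h2, h3⟩ := fix_B hi' ho' hf
      exact mem_three N hi'.1 hi'.2.1 hi'.2.2.2.1 hr h1 h2 h3 e hp hc
    have hxy : π y = π x := by
      rw [e, hy]
      exact prod_perm tr c1 c2 c3 (perm_cases ba ca cb (key a a0 pa hpa fa ka) (key b b0 pb hpb fb kb)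
        (key c c0 pc hpc fc kc))
    rcases N.toExt.eq_or hxy with h | h
    · exact Or.inl h
    · exact Or.inr h

/-- No odd order normal subgroup. -/
theorem eq_bot_of_odd (N : NS z π) {y : C} (hB : SporRec.TwoSp6.CInvol.IsB π y) {M : Subgroup C}
    (hM : ∀ x ∈ M, x * y = y * x) (hn : ∀ g, g * y = y * g → ∀ x ∈ M, g * x * g⁻¹ ∈ M)
    (hodd : Odd (Nat.card ↥M)) : M = ⊥ := by
  have hinv : ∀ x ∈ M, x * x = 1 → x = 1 := by
    intro x hx h
    have h1 : orderOf (⟨x, hx⟩ : ↥M) ∣ 2 := by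
      apply orderOf_dvd_of_pow_eq_one
      rw [pow_two]
      exact Subtype.ext h
    have h2 : orderOf (⟨x, hx⟩ : ↥M) ∣ Nat.card ↥M := orderOf_dvd_natCard _
    have h3 : Nat.Coprime 2 (Nat.card ↥M) := Nat.coprime_two_left.mpr hodd
    have h4 : orderOf (⟨x, hx⟩ : ↥M) = 1 := Nat.eq_one_of_dvd_coprimes h3 h1 h2
    exact congrArg Subtype.val (orderOf_eq_one_iff.mp h4)
  have hz : z ∉ M := fun h => N.z_ne (hinv z h N.z_sq)
  rw [Subgroup.eq_bot_iff_forall]
  intro x hx
  rcases small N hB hM hn hz x hx with h | h | h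
  · exact h
  · exact hinv x hx (by rw [h]; exact NS.sq_B N hB)
  · exact hinv x hx (by rw [h]; exact NS.sq_B N (NS.isB_mul N hB))

/-- An involution of type A commuting with an involution of type B. -/
theorem exists_A (N : NS z π) {y : C} (hB : SporRec.TwoSp6.CInvol.IsB π y) :
    ∃ v, SporRec.TwoSp6.CInvol.IsA π v ∧ v * y = y * v := by
  obtain ⟨a, b, c, ⟨a0, b0, ba, c0, ca, cb, cab⟩, ⟨o1, o2, o3⟩, hy⟩ := hB
  have o1' : om b a = 0 := by rw [om_symm]; exact o1
  have o2' : om c a = 0 := by rw [om_symm]; exact o2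
  have o3' : om c b = 0 := by rw [om_symm]; exact o3
  obtain ⟨p, hp⟩ := N.surj (tr a)
  obtain ⟨q, hq⟩ := N.surj (tr (b + c))
  obtain ⟨r, hr⟩ := N.surj (tr (a + (b + c)))
  have bc0 : b + c ≠ 0 := add_ne_zero' cb
  have bca : b + c ≠ a := fun h => cab (by rw [← h, add_comm b c, add_assoc, add_self, add_zero])
  have abc0 : a + (b + c) ≠ 0 := add_ne_zero' bca
  -- `p` commutes with `y`, `q` and `r` anticommute
  have k1 : p * y = y * p := comm_three N a0 b0 ba c0 ca o1 o2 hy hp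
  have k2 : q * y = z * (y * q) := by
    refine NS.conj_three N a0 b0 c0 bc0 bca.symm ?_ ?_ ?_ ?_ ?_ hy hq
    · intro h
      apply c0
      have : b + c = b + 0 := by rw [add_zero]; exact h.symm
      exact add_left_cancel this
    · intro h
      apply b0
      have : b + c = 0 + c := by rw [zero_add]; exact h.symm
      exact add_right_cancel this
    · rw [om_add', o1', o2', add_zero]
    · rw [om_add', om_self, o3', add_zero]
    · rw [om_add', om_self, o3, add_zero]
  have k3 : r * y = z * (y * r) := by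
    refine NS.conj_three N a0 b0 c0 abc0 ?_ ?_ ?_ ?_ ?_ ?_ hy hr
    · intro h
      apply bc0
      have : a + (b + c) = a + 0 := by rw [add_zero]; exact h.symm
      exact add_left_cancel this
    · intro h
      apply ca
      have : b + (a + c) = b + 0 := by rw [add_zero]; rw [add_left_comm]; exact h.symm
      have h2 := add_left_cancel this
      exact (eq_of_add_eq_zero h2).symm
    · intro h
      apply ba
      have : c + (a + b) = c + 0 := by
        rw [add_zero]
        calc c + (a + b) = a + (b + c) := by abel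
          _ = c := h.symm
      have h2 := add_left_cancel this
      exact (eq_of_add_eq_zero h2).symm
    · rw [om_add', om_add', om_self, o1', o2', add_zero, add_zero]
    · rw [om_add', om_add', om_self, o1, o3', add_zero, add_zero]
    · rw [om_add', om_add', om_self, o2, o3, add_zero, add_zero]
  refine ⟨p * q * r, ⟨a, b + c, a0, bc0, bca, by rw [om_add, o1, o2, add_zero], ?_⟩, ?_⟩
  · rw [map_mul, map_mul, hp, hq, hr]
  · calc p * q * r * y = p * q * (r * y) := by group
      _ = z * (p * (q * y) * r) := by rw [k3, zr N]; group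
      _ = z * (z * (p * y * q * r)) := by rw [k2, zr N]; group
      _ = (p * y) * q * r := by rw [zz N]
      _ = y * (p * q * r) := by rw [k1]; group

end

end Cfsg.Agent.KFacts.Co3D4

end

-- merged: Cfsg.Agent.KFacts.Co3D4.Glevel
section

/-!
# Facts of kind D4 on groups of type `Co₃`

`G` finite without odd core and centre, `t` an involution, `C(t)` the non-split double cover of `Sp₆(2)`
(`N : NS (tC t) π`): `z1`, `bal`, `not_bad` of `OddHalf.D4.Spor.Sheet`.
-/

set_option autoImplicit false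

namespace Cfsg.Agent.KFacts.Co3D4

open Cfsg.Agent.SporRec.TwoSp6.Cox Cfsg.Agent.SporRec.TwoSp6.Sp Cfsg.Agent.SporRec.TwoSp6.Lift
  Cfsg.Agent.SporRec.TwoSp6.Main Cfsg.Agent.SporRec.TwoSp6.Invol Cfsg.Agent.SporRec.TwoSp6.CInvol
open Cfsg.Agent.SporRec.Co3.Fusion (tC mem_cent InA InB t_sq t_ne)
open Cfsg.Agent.OddHalf.D4.Spor (Cen Bad)

variable {G : Type*} [Group G] {t : G} {π : Subgroup.centralizer ({t} : Set G) →* S}

/-! ### general remarks -/

theorem eq_one_of_odd {I : Subgroup G} (hodd : Odd (Nat.card ↥I)) {x : G} (hx : x ∈ I) (h : x * x = 1) : x = 1 := by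
  have h1 : orderOf (⟨x, hx⟩ : ↥I) ∣ 2 := by
    apply orderOf_dvd_of_pow_eq_one
    rw [pow_two]
    exact Subtype.ext h
  have h2 : orderOf (⟨x, hx⟩ : ↥I) ∣ Nat.card ↥I := orderOf_dvd_natCard _
  have h3 : Nat.Coprime 2 (Nat.card ↥I) := Nat.coprime_two_left.mpr hodd
  have h4 : orderOf (⟨x, hx⟩ : ↥I) = 1 := Nat.eq_one_of_dvd_coprimes h3 h1 h2
  exact congrArg Subtype.val (orderOf_eq_one_iff.mp h4)

/-- An involution with trivial centraliser in a group of odd order inverts it. -/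
theorem inverts [Finite G] {I : Subgroup G} (hodd : Odd (Nat.card ↥I)) {s : G} (hs : s * s = 1)
    (hn : ∀ x ∈ I, s * x * s⁻¹ ∈ I) (hc : ∀ x ∈ I, x * s = s * x → x = 1) : ∀ x ∈ I, s * x * s⁻¹ = x⁻¹ := by
  let φ : ↥I →* ↥I :=
    { toFun := fun x => ⟨s * x * s⁻¹, hn x x.2⟩
      map_one' := Subtype.ext (by show s * 1 * s⁻¹ = 1; group)
      map_mul' := fun x y => Subtype.ext (by show s * ((x : G) * y) * s⁻¹ = s * x * s⁻¹ * (s * y * s⁻¹); group) }
  have hφ : MonoidHom.FixedPointFree φ := by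
    intro x hx
    have h1 : s * (x : G) * s⁻¹ = x := congrArg Subtype.val hx
    exact Subtype.ext (hc x x.2 (mul_inv_eq_iff_eq_mul.mp h1).symm)
  have hinv : Function.Involutive φ := by
    intro x
    apply Subtype.ext
    show s * (s * (x : G) * s⁻¹) * s⁻¹ = x
    have : s * (s * (x : G) * s⁻¹) * s⁻¹ = (s * s) * x * (s * s)⁻¹ := by group
    rw [this, hs]; group
  have h := MonoidHom.FixedPointFree.coe_eq_inv_of_involutive hφ hinv
  intro x hx
  have h1 := congrFun h ⟨x, hx⟩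
  exact congrArg Subtype.val h1

/-- Two commuting involutions and their product cannot all invert. -/
theorem eq_bot_of_inverts {I : Subgroup G} (hodd : Odd (Nat.card ↥I)) {s r : G}
    (h1 : ∀ x ∈ I, s * x * s⁻¹ = x⁻¹) (h2 : ∀ x ∈ I, r * x * r⁻¹ = x⁻¹)
    (h3 : ∀ x ∈ I, (s * r) * x * (s * r)⁻¹ = x⁻¹) : I = ⊥ := by
  rw [Subgroup.eq_bot_iff_forall]
  intro x hx
  apply eq_one_of_odd hodd hx
  have e : (s * r) * x * (s * r)⁻¹ = x := by
    have e1 : (s * r) * x * (s * r)⁻¹ = s * (r * x * r⁻¹) * s⁻¹ := by group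
    rw [e1, h2 x hx, h1 x⁻¹ (I.inv_mem hx), inv_inv]
  rw [h3 x hx] at e
  calc x * x = x⁻¹ * x := by rw [e]
    _ = 1 := inv_mul_cancel x

/-! ### centralisers -/

/-- The centraliser of `t` has no odd core. -/
theorem odd_t (N : NS (tC t) π) {I : Subgroup G} (hI : ∀ i ∈ I, i * t = t * i)
    (hn : ∀ c, c * t = t * c → ∀ i ∈ I, c * i * c⁻¹ ∈ I) (hodd : Odd (Nat.card ↥I)) : I = ⊥ := by
  have hsimple : IsSimpleGroup S := Cfsg.Agent.Co2Type.Setup.isSimpleGroup_sp6
  let C := Subgroup.centralizer ({t} : Set G)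
  have hIC : I ≤ C := fun i hi => mem_cent.2 (hI i hi)
  have hmap : ((I.subgroupOf C).map π).Normal := by
    refine ⟨?_⟩
    rintro _ ⟨i, hi, rfl⟩ g
    obtain ⟨c, rfl⟩ := N.surj g
    refine ⟨c * i * c⁻¹, ?_, by rw [map_mul, map_mul, map_inv]⟩
    exact hn c (mem_cent.1 c.2) i hi
  have hcardI : Nat.card ↥(I.subgroupOf C) = Nat.card ↥I := Nat.card_congr (Subgroup.subgroupOfEquivOfLe hIC).toEquiv
  rw [Subgroup.eq_bot_iff_forall]
  intro x hx
  rcases hmap.eq_bot_or_eq_top with h | h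
  · have h1 : π ⟨x, hIC hx⟩ ∈ (I.subgroupOf C).map π := ⟨⟨x, hIC hx⟩, hx, rfl⟩
    rw [h, Subgroup.mem_bot] at h1
    rcases N.ker _ h1 with h2 | h2
    · exact congrArg Subtype.val h2
    · apply eq_one_of_odd hodd hx
      have h3 : x = t := congrArg Subtype.val h2
      rw [h3]
      exact t_sq N
  · exfalso
    have h1 : Nat.card ↥((I.subgroupOf C).map π) ∣ Nat.card ↥(I.subgroupOf C) := Subgroup.card_map_dvd _ _
    rw [h, Subgroup.card_top, hcardI, card_S] at h1
    have h2 : 2 ∣ Nat.card ↥I := Dvd.dvd.trans (by norm_num) h1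
    rw [Nat.odd_iff] at hodd
    omega

/-- The centraliser in `C(t)` of an involution of type B. -/
theorem odd_tB (N : NS (tC t) π) {w : G} (hB : InB π w) {I : Subgroup G} (hI : ∀ i ∈ I, i * w = w * i)
    (hn : ∀ c, c * w = w * c → ∀ i ∈ I, c * i * c⁻¹ ∈ I) (hodd : Odd (Nat.card ↥I)) :
    ∀ x ∈ I, x * t = t * x → x = 1 := by
  obtain ⟨hm, hB⟩ := hB
  let C := Subgroup.centralizer ({t} : Set G)
  have hcard : Odd (Nat.card ↥(I.subgroupOf C)) := by
    refine Odd.of_dvd_nat hodd ?_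
    have e : Nat.card ↥(I.subgroupOf C) = Nat.card ↥(I ⊓ C) := by
      rw [← Subgroup.inf_subgroupOf_right]
      exact Nat.card_congr (Subgroup.subgroupOfEquivOfLe inf_le_right).toEquiv
    rw [e]
    exact Subgroup.card_dvd_of_le inf_le_left
  have h := eq_bot_of_odd N hB (M := I.subgroupOf C)
    (fun x hx => Subtype.ext (hI x hx))
    (fun g hg x hx => hn g (congrArg Subtype.val hg) x hx) hcard
  intro x hx hxt
  have h1 : (⟨x, mem_cent.2 hxt⟩ : C) ∈ I.subgroupOf C := hx
  rw [h, Subgroup.mem_bot] at h1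
  exact congrArg Subtype.val h1

/-- conjugation -/
theorem conj_cen [Finite G] {w : G} (h : Cen w) (g : G) : Cen (g * w * g⁻¹) := by
  obtain ⟨T, hT⟩ := h
  have : Fact (Nat.Prime 2) := ⟨Nat.prime_two⟩
  refine ⟨g • T, ?_⟩
  intro s hs
  have h1 : g⁻¹ * s * g ∈ T := by
    have : s ∈ ((g • T : Sylow 2 G) : Subgroup G) := hs
    rw [Sylow.smul_def] at this
    have h2 := Subgroup.mem_pointwise_smul_iff_inv_smul_mem.mp this
    have h3 : (MulAut.conj g)⁻¹ • s = g⁻¹ * s * g := by
      rw [← map_inv]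
      show g⁻¹ * s * g⁻¹⁻¹ = _
      rw [inv_inv]
    rw [h3] at h2
    exact h2
  have h2 := hT _ h1
  calc s * (g * w * g⁻¹) = g * ((g⁻¹ * s * g) * w) * g⁻¹ := by group
    _ = g * (w * (g⁻¹ * s * g)) * g⁻¹ := by rw [h2]
    _ = g * w * g⁻¹ * s := by group

/-- `t` is 2-central -/
theorem cen_t [Finite G] (N : NS (tC t) π) : Cen t := by
  obtain ⟨T, -, hT⟩ := Cfsg.Agent.SporRec.Co3.Sylow2.exists_sylow N
  exact ⟨T, hT⟩

/-- A 2-subgroup centralises a conjugate of `t`. -/
theorem exists_t [Finite G] (N : NS (tC t) π) {P : Subgroup G} (hP : IsPGroup 2 ↥P) :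
    ∃ g : G, ∀ x ∈ P, (g⁻¹ * x * g) * t = t * (g⁻¹ * x * g) := by
  have : Fact (Nat.Prime 2) := ⟨Nat.prime_two⟩
  obtain ⟨T, -, hT⟩ := Cfsg.Agent.SporRec.Co3.Sylow2.exists_sylow N
  obtain ⟨Q, hQ⟩ := hP.exists_le_sylow
  obtain ⟨g, hg⟩ := MulAction.exists_smul_eq G T Q
  refine ⟨g, fun x hx => hT _ ?_⟩
  have h1 : x ∈ ((g • T : Sylow 2 G) : Subgroup G) := by rw [hg]; exact hQ hx
  rw [Sylow.smul_def] at h1
  have h2 := Subgroup.mem_pointwise_smul_iff_inv_smul_mem.mp h1
  have h3 : (MulAut.conj g)⁻¹ • x = g⁻¹ * x * g := by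
    rw [← map_inv]
    show g⁻¹ * x * g⁻¹⁻¹ = _
    rw [inv_inv]
  rw [h3] at h2
  exact h2

/-- The only involution of the centre of a Sylow 2-subgroup contained in `C(t)` is `t`. -/
theorem eq_t [Finite G] (N : NS (tC t) π) {T : Sylow 2 G} (hT : ∀ x ∈ T, x * t = t * x) {a : G} (ha : a ∈ T)
    (ha2 : a * a = 1) (ha1 : a ≠ 1) (hac : ∀ s ∈ T, s * a = a * s) : a = t := by
  have : Fact (Nat.Prime 2) := ⟨Nat.prime_two⟩
  by_contra hne
  let C := Subgroup.centralizer ({t} : Set G)
  have hTC : (T : Subgroup G) ≤ C := fun x hx => mem_cent.2 (hT x hx)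
  have haC : a ∈ C := hTC ha
  have hcases : SporRec.TwoSp6.CInvol.IsA π ⟨a, haC⟩ ∨ SporRec.TwoSp6.CInvol.IsB π ⟨a, haC⟩ :=
    NS.invol N (y := ⟨a, haC⟩) (Subtype.ext ha2) (fun h => ha1 (congrArg Subtype.val h))
      (fun h => hne (congrArg Subtype.val h))
  obtain ⟨k, hk⟩ := Cfsg.Agent.SporRec.Co3.Sylow2.exists_conj_mul N hcases
  refine Cfsg.Agent.SporRec.Co3.Sylow2.not_sylow_le (z := tC t) N.z_comm N.z_sq N.z_ne hk (T.subtype hTC) ?_
  intro g hg
  exact Subtype.ext (hac g.1 hg)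

/-- **`z1`** -/
theorem z1 [Finite G] (N : NS (tC t) π) (T : Sylow 2 G) (a : G) (ha : a ∈ T) (ha2 : a * a = 1) (ha1 : a ≠ 1)
    (hac : ∀ s ∈ T, s * a = a * s) (b : G) (hb : b ∈ T) (hb2 : b * b = 1) (hb1 : b ≠ 1)
    (hbc : ∀ s ∈ T, s * b = b * s) : a = b := by
  have : Fact (Nat.Prime 2) := ⟨Nat.prime_two⟩
  obtain ⟨T₀, -, hT₀⟩ := Cfsg.Agent.SporRec.Co3.Sylow2.exists_sylow N
  obtain ⟨g, hg⟩ := MulAction.exists_smul_eq G T₀ T
  have hmem : ∀ x : G, x ∈ T₀ → g * x * g⁻¹ ∈ T := by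
    intro x hx
    rw [← hg]
    show g * x * g⁻¹ ∈ ((g • T₀ : Sylow 2 G) : Subgroup G)
    rw [Sylow.smul_def]
    exact Subgroup.smul_mem_pointwise_smul x (MulAut.conj g) _ hx
  have hmem' : ∀ x : G, x ∈ T → g⁻¹ * x * g ∈ T₀ := by
    intro x hx
    have h1 : x ∈ ((g • T₀ : Sylow 2 G) : Subgroup G) := by rw [hg]; exact hx
    rw [Sylow.smul_def] at h1
    have h2 := Subgroup.mem_pointwise_smul_iff_inv_smul_mem.mp h1
    have h3 : (MulAut.conj g)⁻¹ • x = g⁻¹ * x * g := by
      rw [← map_inv]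
      show g⁻¹ * x * g⁻¹⁻¹ = _
      rw [inv_inv]
    rw [h3] at h2
    exact h2
  have key : ∀ a : G, a ∈ T → a * a = 1 → a ≠ 1 → (∀ s ∈ T, s * a = a * s) → g⁻¹ * a * g = t := by
    intro a ha ha2 ha1 hac
    refine eq_t N hT₀ (hmem' a ha) ?_ ?_ ?_
    · have : (g⁻¹ * a * g) * (g⁻¹ * a * g) = g⁻¹ * (a * a) * g := by group
      rw [this, ha2]; group
    · intro h
      apply ha1
      calc a = g * (g⁻¹ * a * g) * g⁻¹ := by group
        _ = 1 := by rw [h]; group
    · intro s hs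
      have h1 := hac _ (hmem s hs)
      calc s * (g⁻¹ * a * g) = g⁻¹ * ((g * s * g⁻¹) * a) * g := by group
        _ = g⁻¹ * (a * (g * s * g⁻¹)) * g := by rw [h1]
        _ = g⁻¹ * a * g * s := by group
  have h1 := key a ha ha2 ha1 hac
  have h2 := key b hb hb2 hb1 hbc
  calc a = g * (g⁻¹ * a * g) * g⁻¹ := by group
    _ = g * (g⁻¹ * b * g) * g⁻¹ := by rw [h1, h2]
    _ = b := by group

/-- **`bal`** -/
theorem bal [Finite G] (ht : orderOf t = 2) (hO : Cfsg.oddCore G = ⊥) (hZ : Subgroup.center G = ⊥)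
    (N : NS (tC t) π) (a : G) (ha2 : a * a = 1) (ha1 : a ≠ 1) (I : Subgroup G) (hI : ∀ i ∈ I, i * a = a * i)
    (hn : ∀ c : G, c * a = a * c → ∀ i ∈ I, c * i * c⁻¹ ∈ I) (hodd : Odd (Nat.card ↥I)) : I = ⊥ := by
  have : Fact (Nat.Prime 2) := ⟨Nat.prime_two⟩
  -- transport
  have trans : ∀ (g : G), (∀ (J : Subgroup G), (∀ i ∈ J, i * (g⁻¹ * a * g) = (g⁻¹ * a * g) * i) →
      (∀ c : G, c * (g⁻¹ * a * g) = (g⁻¹ * a * g) * c → ∀ i ∈ J, c * i * c⁻¹ ∈ J) → Odd (Nat.card ↥J) → J = ⊥) →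
      I = ⊥ := by
    intro g hJ
    have h1 := hJ (I.map (MulAut.conj g⁻¹).toMonoidHom) ?_ ?_ ?_
    · rwa [Subgroup.map_eq_bot_iff_of_injective _ (MulAut.conj g⁻¹).injective] at h1
    · rintro _ ⟨i, hi, rfl⟩
      have h2 := hI i hi
      show (g⁻¹ * i * g⁻¹⁻¹) * (g⁻¹ * a * g) = (g⁻¹ * a * g) * (g⁻¹ * i * g⁻¹⁻¹)
      calc (g⁻¹ * i * g⁻¹⁻¹) * (g⁻¹ * a * g) = g⁻¹ * (i * a) * g := by group
        _ = g⁻¹ * (a * i) * g := by rw [h2]
        _ = _ := by group
    · rintro c hc _ ⟨i, hi, rfl⟩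
      refine ⟨(g * c * g⁻¹) * i * (g * c * g⁻¹)⁻¹, hn _ ?_ i hi, ?_⟩
      · calc g * c * g⁻¹ * a = g * (c * (g⁻¹ * a * g)) * g⁻¹ := by group
          _ = g * ((g⁻¹ * a * g) * c) * g⁻¹ := by rw [hc]
          _ = a * (g * c * g⁻¹) := by group
      · show g⁻¹ * ((g * c * g⁻¹) * i * (g * c * g⁻¹)⁻¹) * g⁻¹⁻¹ = c * (g⁻¹ * i * g⁻¹⁻¹) * c⁻¹
        group
    · rw [← Nat.card_congr (I.equivMapOfInjective _ (MulAut.conj g⁻¹).injective).toEquiv]
      exact hodd
  -- the conjugates of `t`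
  have hT : ∀ g : G, g⁻¹ * a * g = t → I = ⊥ := by
    intro g hg
    apply trans g
    rw [hg]
    intro J h1 h2 h3
    exact odd_t N h1 h2 h3
  have hp : IsPGroup 2 ↥(Subgroup.zpowers a) := by
    rw [IsPGroup.iff_card]
    refine ⟨1, ?_⟩
    rw [Nat.card_zpowers, pow_one]
    exact orderOf_eq_prime (by rw [pow_two]; exact ha2) ha1
  obtain ⟨g, hg⟩ := exists_t N hp
  have hg := hg a (Subgroup.mem_zpowers a)
  have b2 : (g⁻¹ * a * g) * (g⁻¹ * a * g) = 1 := by
    have : (g⁻¹ * a * g) * (g⁻¹ * a * g) = g⁻¹ * (a * a) * g := by group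
    rw [this, ha2]; group
  have b1 : g⁻¹ * a * g ≠ 1 := by
    intro h
    apply ha1
    calc a = g * (g⁻¹ * a * g) * g⁻¹ := by group
      _ = 1 := by rw [h]; group
  by_cases hbt : g⁻¹ * a * g = t
  · exact hT g hbt
  rcases Cfsg.Agent.SporRec.Co3.Fusion.invol N hg b2 b1 hbt with hA | hB
  · obtain ⟨k, hk⟩ := Cfsg.Agent.SporRec.Co3.Fusion.fused_A ht hO hZ N hA
    apply hT (g * k)
    calc (g * k)⁻¹ * a * (g * k) = k⁻¹ * (g⁻¹ * a * g) * k := by group
      _ = k⁻¹ * (k * t * k⁻¹) * k := by rw [hk]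
      _ = t := by group
  apply trans g
  clear trans hT
  revert hB
  generalize g⁻¹ * a * g = w
  intro hB J h1 h2 h3
  -- a four-group of conjugates of `t` commuting with `w`
  obtain ⟨hm, hB'⟩ := id hB
  obtain ⟨v, hvA, hvw⟩ := exists_A N hB'
  have hvA' : InA π (v : G) := ⟨v.2, hvA⟩
  have hvw' : (v : G) * w = w * v := congrArg Subtype.val hvw
  -- every conjugate of `t` commuting with `w` inverts `J`
  have key : ∀ k : G, (k * t * k⁻¹) * w = w * (k * t * k⁻¹) → ∀ x ∈ J, (k * t * k⁻¹) * x * (k * t * k⁻¹)⁻¹ = x⁻¹ := by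
    intro k hk
    have hkk : (k * t * k⁻¹) * (k * t * k⁻¹) = 1 := by
      have : (k * t * k⁻¹) * (k * t * k⁻¹) = k * (t * t) * k⁻¹ := by group
      rw [this, t_sq N]; group
    apply inverts h3 hkk
    · intro x hx
      exact h2 _ hk x hx
    · intro x hx hxk
      -- transport by `k`
      have hwB : InB π (k⁻¹ * w * k) := by
        have c1 : (k⁻¹ * w * k) * t = t * (k⁻¹ * w * k) := by
          calc (k⁻¹ * w * k) * t = k⁻¹ * (w * (k * t * k⁻¹)) * k := by group
            _ = k⁻¹ * ((k * t * k⁻¹) * w) * k := by rw [hk]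
            _ = t * (k⁻¹ * w * k) := by group
        have c2 : (k⁻¹ * w * k) * (k⁻¹ * w * k) = 1 := by
          have hw2 : w * w = 1 := congrArg Subtype.val (NS.sq_B N hB')
          have : (k⁻¹ * w * k) * (k⁻¹ * w * k) = k⁻¹ * (w * w) * k := by group
          rw [this, hw2]; group
        have hnf := Cfsg.Agent.SporRec.Co3.Fusion.not_fused_B N hB
        have c3 : k⁻¹ * w * k ≠ 1 := by
          intro h
          have hw1 : w = 1 := by
            calc w = k * (k⁻¹ * w * k) * k⁻¹ := by group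
              _ = 1 := by rw [h]; group
          have := Cfsg.Agent.SporRec.TwoSp6.CInvol.isB_not_sq hB' 1
          apply this
          rw [mul_one]
          exact Subtype.ext hw1.symm
        have c4 : k⁻¹ * w * k ≠ t := by
          intro h
          apply hnf k
          rw [← h]; group
        rcases Cfsg.Agent.SporRec.Co3.Fusion.invol N c1 c2 c3 c4 with h | h
        · exfalso
          obtain ⟨l, hl⟩ := Cfsg.Agent.SporRec.Co3.Fusion.fused_A ht hO hZ N h
          apply hnf (k * l)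
          calc k * l * t * (k * l)⁻¹ = k * (l * t * l⁻¹) * k⁻¹ := by group
            _ = w := by rw [hl]; group
        · exact h
      have h4 := odd_tB N hwB (I := J.map (MulAut.conj k⁻¹).toMonoidHom) ?_ ?_ ?_ (k⁻¹ * x * k) ?_ ?_
      · calc x = k * (k⁻¹ * x * k) * k⁻¹ := by group
          _ = 1 := by rw [h4]; group
      · rintro _ ⟨i, hi, rfl⟩
        have h5 := h1 i hi
        show (k⁻¹ * i * k⁻¹⁻¹) * (k⁻¹ * w * k) = (k⁻¹ * w * k) * (k⁻¹ * i * k⁻¹⁻¹)
        calc (k⁻¹ * i * k⁻¹⁻¹) * (k⁻¹ * w * k) = k⁻¹ * (i * w) * k := by group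
          _ = k⁻¹ * (w * i) * k := by rw [h5]
          _ = _ := by group
      · rintro c hc _ ⟨i, hi, rfl⟩
        refine ⟨(k * c * k⁻¹) * i * (k * c * k⁻¹)⁻¹, h2 _ ?_ i hi, ?_⟩
        · calc k * c * k⁻¹ * w = k * (c * (k⁻¹ * w * k)) * k⁻¹ := by group
            _ = k * ((k⁻¹ * w * k) * c) * k⁻¹ := by rw [hc]
            _ = w * (k * c * k⁻¹) := by group
        · show k⁻¹ * ((k * c * k⁻¹) * i * (k * c * k⁻¹)⁻¹) * k⁻¹⁻¹ = c * (k⁻¹ * i * k⁻¹⁻¹) * c⁻¹
          group
      · rw [← Nat.card_congr (J.equivMapOfInjective _ (MulAut.conj k⁻¹).injective).toEquiv]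
        exact h3
      · refine ⟨x, hx, ?_⟩
        show k⁻¹ * x * k⁻¹⁻¹ = _
        rw [inv_inv]
      · calc (k⁻¹ * x * k) * t = k⁻¹ * (x * (k * t * k⁻¹)) * k := by group
          _ = k⁻¹ * ((k * t * k⁻¹) * x) * k := by rw [hxk]
          _ = t * (k⁻¹ * x * k) := by group
  have htw : t * w = w * t := (InB.comm hB).symm
  obtain ⟨k1, hk1⟩ := Cfsg.Agent.SporRec.Co3.Fusion.fused_A ht hO hZ N hvA'
  obtain ⟨k2, hk2⟩ := Cfsg.Agent.SporRec.Co3.Fusion.fused_A ht hO hZ N (InA.mul_t N hvA')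
  refine eq_bot_of_inverts h3 (s := t) (r := v) ?_ ?_ ?_
  · have := key 1 (by simpa using htw)
    simpa using this
  · have := key k1 (by rw [hk1]; exact hvw')
    rwa [hk1] at this
  · have := key k2 (by
      rw [hk2]
      calc t * (v : G) * w = t * (v * w) := by group
        _ = t * (w * v) := by rw [hvw']
        _ = (t * w) * v := by group
        _ = w * (t * v) := by rw [htw]; group)
    rwa [hk2] at this

/-- **`Bad` is impossible.** -/
theorem not_bad [Finite G] (ht : orderOf t = 2) (hO : Cfsg.oddCore G = ⊥) (hZ : Subgroup.center G = ⊥)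
    (N : NS (tC t) π) (w : G) (M : Subgroup G) : ¬ Bad w M := by
  intro hb
  have : Fact (Nat.Prime 2) := ⟨Nat.prime_two⟩
  -- a subgroup of order 4 of `M`
  obtain ⟨V, hV⟩ := Sylow.exists_subgroup_card_pow_prime (G := ↥M) 2 (n := 2) (by simpa using hb.four)
  set W : Subgroup G := V.map M.subtype with hW
  have hWcard : Nat.card ↥W = 4 := by
    rw [hW, ← Nat.card_congr (V.equivMapOfInjective _ M.subtype_injective).toEquiv, hV]
    norm_num
  have hWM : W ≤ M := by
    rintro _ ⟨v, -, rfl⟩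
    exact v.2
  have hWp : IsPGroup 2 ↥W := by
    rw [IsPGroup.iff_card]
    exact ⟨2, by rw [hWcard]; norm_num⟩
  have hwp : IsPGroup 2 ↥(Subgroup.zpowers w) := by
    rw [IsPGroup.iff_card]
    refine ⟨1, ?_⟩
    rw [Nat.card_zpowers, pow_one]
    exact orderOf_eq_prime (by rw [pow_two]; exact hb.sq) hb.ne
  have hP : IsPGroup 2 ↥(W ⊔ Subgroup.zpowers w) := by
    apply hWp.to_sup_of_normal_left' hwp
    rw [Subgroup.zpowers_le, Subgroup.mem_normalizer_iff]
    have h3 : ∀ x ∈ W, w * x * w⁻¹ = x := by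
      intro x hx
      have := hb.le x (hWM hx)
      rw [← this]; group
    intro x
    constructor
    · intro hx
      rw [h3 x hx]; exact hx
    · intro hx
      have h4 := h3 _ hx
      have h5 : w * x * w⁻¹ = x := mul_left_cancel (mul_right_cancel h4)
      rwa [h5] at hx
  obtain ⟨g, hg⟩ := exists_t N hP
  have hgw := hg w (Subgroup.mem_sup_right (Subgroup.mem_zpowers w))
  have hgW : ∀ x ∈ W, (g⁻¹ * x * g) * t = t * (g⁻¹ * x * g) := fun x hx => hg x (Subgroup.mem_sup_left hx)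
  -- transport
  set y := g⁻¹ * w * g with hy
  have y2 : y * y = 1 := by
    have : y * y = g⁻¹ * (w * w) * g := by rw [hy]; group
    rw [this, hb.sq]; group
  have gy : g * y * g⁻¹ = w := by rw [hy]; group
  have y1 : y ≠ 1 := by
    intro h
    apply hb.ne
    rw [← gy, h]; group
  have hct := cen_t N
  have nconj : ∀ x ∈ M, x * x = 1 → x ≠ 1 → ∀ k : G, k * t * k⁻¹ ≠ x := by
    intro x hx h2 h1 k hk
    apply hb.non x hx h2 h1
    rw [← hk]
    exact conj_cen hct k
  have yt : y ≠ t := by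
    intro h
    apply nconj w hb.mem hb.sq hb.ne g
    rw [← h, gy]
  have hyB : InB π y := by
    rcases Cfsg.Agent.SporRec.Co3.Fusion.invol N hgw y2 y1 yt with h | h
    · exfalso
      obtain ⟨l, hl⟩ := Cfsg.Agent.SporRec.Co3.Fusion.fused_A ht hO hZ N h
      apply nconj w hb.mem hb.sq hb.ne (g * l)
      calc g * l * t * (g * l)⁻¹ = g * (l * t * l⁻¹) * g⁻¹ := by group
        _ = w := by rw [hl, gy]
    · exact h
  obtain ⟨hm, hB⟩ := hyB
  let C := Subgroup.centralizer ({t} : Set G)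
  set M' : Subgroup C := (M.map (MulAut.conj g⁻¹).toMonoidHom).subgroupOf C with hM'
  have memM' : ∀ x : C, x ∈ M' ↔ g * x * g⁻¹ ∈ M := by
    intro x
    rw [hM', Subgroup.mem_subgroupOf]
    constructor
    · rintro ⟨i, hi, hix⟩
      have : g⁻¹ * i * g⁻¹⁻¹ = x := hix
      rw [← this]
      have e : g * (g⁻¹ * i * g⁻¹⁻¹) * g⁻¹ = i := by group
      rw [e]; exact hi
    · intro h
      refine ⟨_, h, ?_⟩
      show g⁻¹ * (g * x * g⁻¹) * g⁻¹⁻¹ = x
      group
  have hsmall := small N hB (M := M') ?_ ?_ ?_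
  · -- `W` has at most two elements
    have hW2 : ∀ x ∈ W, x = 1 ∨ x = w := by
      intro x hx
      have h1 : g * (g⁻¹ * x * g) * g⁻¹ = x := by group
      have h2 := hsmall ⟨g⁻¹ * x * g, mem_cent.2 (hgW x hx)⟩ ((memM' _).2 (by
        show g * (g⁻¹ * x * g) * g⁻¹ ∈ M
        rw [h1]; exact hWM hx))
      rcases h2 with h | h | h
      · left
        have h3 : g⁻¹ * x * g = 1 := congrArg Subtype.val h
        rw [← h1, h3]; group
      · right
        have h3 : g⁻¹ * x * g = y := congrArg Subtype.val h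
        rw [← h1, h3, gy]
      · exfalso
        have h3 : g⁻¹ * x * g = t * y := congrArg Subtype.val h
        have h4 : g * t * g⁻¹ = x * w := by
          calc g * t * g⁻¹ = g * (t * y * y) * g⁻¹ := by rw [mul_assoc t, y2, mul_one]
            _ = (g * (t * y) * g⁻¹) * (g * y * g⁻¹) := by group
            _ = x * w := by rw [← h3, gy, h1]
        refine nconj (x * w) (M.mul_mem (hWM hx) hb.mem) ?_ ?_ g h4
        · rw [← h4]
          have : g * t * g⁻¹ * (g * t * g⁻¹) = g * (t * t) * g⁻¹ := by group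
          rw [this, t_sq N]; group
        · rw [← h4]
          intro h5
          apply t_ne N
          calc t = g⁻¹ * (g * t * g⁻¹) * g := by group
            _ = 1 := by rw [h5]; group
    have hle : Nat.card ↥W ≤ 2 := by
      have : (W : Set G) ⊆ {1, w} := fun x hx => hW2 x hx
      calc Nat.card ↥W = (W : Set G).ncard := Nat.card_coe_set_eq _
        _ ≤ ({1, w} : Set G).ncard := Set.ncard_le_ncard this (Set.toFinite _)
        _ ≤ 2 := by
          calc ({1, w} : Set G).ncard ≤ ({w} : Set G).ncard + 1 := Set.ncard_insert_le _ _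
            _ = 2 := by rw [Set.ncard_singleton]
    omega
  · intro x hx
    have h1 := hb.le _ ((memM' x).1 hx)
    apply Subtype.ext
    show (x : G) * y = y * x
    calc (x : G) * y = g⁻¹ * ((g * x * g⁻¹) * w) * g := by rw [hy]; group
      _ = g⁻¹ * (w * (g * x * g⁻¹)) * g := by rw [h1]
      _ = y * x := by rw [hy]; group
  · intro c hc x hx
    rw [memM'] at hx ⊢
    have hc' : (c : G) * y = y * c := congrArg Subtype.val hc
    have h1 := hb.norm (g * c * g⁻¹) (by
      calc g * c * g⁻¹ * w = g * (c * y) * g⁻¹ := by rw [hy]; group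
        _ = g * (y * c) * g⁻¹ := by rw [hc']
        _ = w * (g * c * g⁻¹) := by rw [hy]; group) _ hx
    have e : g * (c * x * c⁻¹ : C) * g⁻¹ = g * c * g⁻¹ * (g * x * g⁻¹) * (g * c * g⁻¹)⁻¹ := by
      show g * ((c : G) * x * (c : G)⁻¹) * g⁻¹ = _
      group
    rw [e]
    exact h1
  · intro hz
    rw [memM'] at hz
    have hz' : g * t * g⁻¹ ∈ M := hz
    refine nconj _ hz' ?_ ?_ g rfl
    · have : g * t * g⁻¹ * (g * t * g⁻¹) = g * (t * t) * g⁻¹ := by group
      rw [this, t_sq N]; group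
    · intro h5
      apply t_ne N
      calc t = g⁻¹ * (g * t * g⁻¹) * g := by group
        _ = 1 := by rw [h5]; group

end Cfsg.Agent.KFacts.Co3D4

end
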